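import Groth.Agent.Lib.FinGrp20.Field
import Mathlib.RingTheory.Unramified.Basic
import Mathlib.RingTheory.Unramified.Field
import Mathlib.RingTheory.Etale.Field

/-!
# Group schemes killed by an invertible integer are unramified
-/

universe u v

open TensorProduct Coalgebra WithConv

namespace Groth.Agent.HopfEtale

variable {k : Type u} [CommRing k] {A : Type v} [CommRing A] [HopfAlgebra k A]

/-- Modulo the square of the augmentation ideal the `m`-th power map is multiplication by `m`. -/
theorem pow_sub_counit_mem (m : ℕ) (c : A) :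
    ((toConv (AlgHom.id k A)) ^ m).ofConv c - algebraMap k A (counit (R := k) c) -
      m • (c - algebraMap k A (counit (R := k) c)) ∈ RingHom.ker (Bialgebra.counitAlgHom k A) ^ 2 := by
  set I := RingHom.ker (Bialgebra.counitAlgHom k A)
  let π := Ideal.Quotient.mkₐ k (I ^ 2)
  have hI : ∀ x : A, x - algebraMap k A (counit (R := k) x) ∈ I := fun x => by simp [I]
  induction m generalizing c with
  | zero => simp
  | succ m ih =>
    rw [← Ideal.Quotient.eq_zero_iff_mem]
    let φ := (toConv (AlgHom.id k A) ^ m : WithConv (A →ₐ[k] A)).ofConv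
    have hprod : ∀ a b : A, π (φ a * b) =
        algebraMap k _ (counit (R := k) a) * π b + algebraMap k _ (counit (R := k) b) * π (φ a) -
          algebraMap k _ (counit (R := k) a) * algebraMap k _ (counit (R := k) b) := by
      intro a b
      have h1 : φ a - algebraMap k A (counit (R := k) a) ∈ I := by
        have := ih a
        have h3 : φ a - algebraMap k A (counit (R := k) a) -
            m • (a - algebraMap k A (counit (R := k) a)) ∈ I := Ideal.pow_le_self two_ne_zero this
        exact (Submodule.sub_mem_iff_left _ (nsmul_mem (hI a) m)).1 h3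
      have h2 : π ((φ a - algebraMap k A (counit (R := k) a)) * (b - algebraMap k A (counit (R := k) b))) = 0 :=
        Ideal.Quotient.eq_zero_iff_mem.2 (by rw [pow_two]; exact Ideal.mul_mem_mul h1 (hI b))
      simp only [map_mul, map_sub, AlgHom.commutes] at h2 ⊢
      rw [← sub_eq_zero]
      refine Eq.trans ?_ h2
      ring
    have key : ∀ z : A ⊗[k] A, π (Algebra.TensorProduct.lift φ (AlgHom.id k A) (fun _ _ => Commute.all _ _) z) =
        π (TensorProduct.lid k A ((counit (R := k)).rTensor A z)) +
          π (φ (TensorProduct.rid k A ((counit (R := k)).lTensor A z))) -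
          algebraMap k _ (counit (R := k) (TensorProduct.lid k A ((counit (R := k)).rTensor A z))) := by
      intro z
      induction z using TensorProduct.induction_on with
      | zero => simp
      | add x y hx hy => simp only [map_add, hx, hy]; abel
      | tmul a b =>
        simp only [Algebra.TensorProduct.lift_tmul, AlgHom.id_apply, hprod, LinearMap.rTensor_tmul,
          LinearMap.lTensor_tmul, TensorProduct.lid_tmul, TensorProduct.rid_tmul, map_smul]
        simp only [Algebra.smul_def, smul_eq_mul, map_mul, Algebra.algebraMap_self, RingHom.id_apply]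
    have h : π ((toConv (AlgHom.id k A) ^ (m + 1) : WithConv (A →ₐ[k] A)).ofConv c) =
        π c + π (φ c) - algebraMap k _ (counit (R := k) c) := by
      rw [pow_succ (toConv (AlgHom.id k A)) m, AlgHom.convMul_apply]
      refine (key _).trans ?_
      rw [rTensor_counit_comul, lTensor_counit_comul]
      simp
    have h0 : π _ = 0 := Ideal.Quotient.eq_zero_iff_mem.2 (ih c)
    show π _ = 0
    simp only [map_sub, map_add, map_nsmul, AlgHom.commutes, succ_nsmul] at h0 ⊢
    rw [h, ← h0]
    abel

/-- A group scheme killed by an invertible integer is unramified. -/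
theorem formallyUnramified_of_pow_eq_one (n : ℕ) (hn : IsUnit (n : k))
    (h : (toConv (AlgHom.id k A)) ^ n = 1) : Algebra.FormallyUnramified k A := by
  set I := RingHom.ker (Bialgebra.counitAlgHom k A)
  have hII : I ≤ I ^ 2 := by
    intro c hc
    have h1 := pow_sub_counit_mem (k := k) n c
    rw [h, AlgHom.convOne_apply, show counit (R := k) c = 0 from hc, map_zero, sub_self, zero_sub,
      neg_mem_iff, sub_zero, ← Nat.cast_smul_eq_nsmul k] at h1
    obtain ⟨u, hu⟩ := hn
    have h2 := Submodule.smul_of_tower_mem (I ^ 2) (↑u⁻¹ : k) h1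
    rwa [← hu, smul_smul, Units.inv_mul, one_smul] at h2
  rw [Algebra.formallyUnramified_iff, KaehlerDifferential, Ideal.cotangent_subsingleton_iff]
  set J := KaehlerDifferential.ideal k A
  let iL : WithConv (A →ₐ[k] A ⊗[k] A) := toConv Algebra.TensorProduct.includeLeft
  let iR : WithConv (A →ₐ[k] A ⊗[k] A) := toConv Algebra.TensorProduct.includeRight
  let μ := (iL⁻¹ * iR).ofConv
  let mul := Algebra.TensorProduct.lmul' k (S := A)
  have hμ : ∀ c ∈ I, μ c ∈ J := by
    intro c hc
    have e : mul.comp μ = (1 : WithConv (A →ₐ[k] A)).ofConv := by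
      let post : WithConv (A →ₐ[k] A ⊗[k] A) →* WithConv (A →ₐ[k] A) :=
        MonoidHom.mk' (fun x => toConv (mul.comp x.ofConv)) fun p q =>
          ofConv_injective (AlgHom.comp_convMul_distrib mul p q)
      have eL : post iL = toConv (AlgHom.id k A) := ofConv_injective (AlgHom.ext fun x => by simp [post, iL, mul])
      have eR : post iR = toConv (AlgHom.id k A) := ofConv_injective (AlgHom.ext fun x => by simp [post, iR, mul])
      have h := congrArg post (mul_inv_cancel_left iL iR)
      rw [map_mul, eL, eR] at h
      exact congrArg ofConv (mul_eq_left.1 h)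
    show mul (μ c) = 0
    rw [← AlgHom.comp_apply, e, AlgHom.convOne_apply, show counit (R := k) c = 0 from hc, map_zero]
  have hgen : ∀ c : A, (1 : A) ⊗ₜ[k] c - c ⊗ₜ[k] 1 ∈ J ^ 2 := by
    intro c
    have hR : iR.ofConv c = (iL * (iL⁻¹ * iR)).ofConv c :=
      (congrArg (fun x : WithConv (A →ₐ[k] A ⊗[k] A) => x.ofConv c) (mul_inv_cancel_left iL iR)).symm
    rw [AlgHom.convMul_apply] at hR
    have key : ∀ z : A ⊗[k] A, Algebra.TensorProduct.lift iL.ofConv μ (fun _ _ => Commute.all _ _) z -
        (TensorProduct.rid k A ((counit (R := k)).lTensor A z)) ⊗ₜ[k] (1 : A) ∈ J ^ 2 := by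
      intro z
      induction z using TensorProduct.induction_on with
      | zero => simp
      | add x y hx hy => simp only [map_add, TensorProduct.add_tmul, add_sub_add_comm]; exact add_mem hx hy
      | tmul a b =>
        have hb : μ (b - algebraMap k A (counit (R := k) b)) ∈ J ^ 2 := by
          have hm : (I ^ 2).map μ ≤ J ^ 2 := by
            rw [Ideal.map_pow]
            exact Ideal.pow_right_mono (Ideal.map_le_iff_le_comap.2 hμ) 2
          exact hm (Ideal.mem_map_of_mem _ (hII (by simp [I])))
        have := Ideal.mul_mem_left (J ^ 2) (a ⊗ₜ[k] (1 : A)) hb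
        rw [map_sub, AlgHom.commutes, mul_sub] at this
        simp only [Algebra.TensorProduct.lift_tmul, LinearMap.lTensor_tmul, TensorProduct.rid_tmul]
        have e2 : (counit (R := k) b • a) ⊗ₜ[k] (1 : A) =
            a ⊗ₜ[k] (1 : A) * algebraMap k (A ⊗[k] A) (counit (R := k) b) := by
          rw [mul_comm, ← Algebra.smul_def, TensorProduct.smul_tmul']
        rw [e2]
        exact this
    have h2 := key (comul (R := k) c)
    rw [lTensor_counit_comul, ← hR] at h2
    simpa [iR] using h2
  refine le_antisymm (Ideal.mul_le_left) ?_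
  intro x hx
  have hspan : J = Ideal.span (Set.range fun s : A => (1 : A) ⊗ₜ[k] s - s ⊗ₜ[k] (1 : A)) :=
    (KaehlerDifferential.span_range_eq_ideal k A).symm
  rw [hspan] at hx
  have : Ideal.span (Set.range fun s : A => (1 : A) ⊗ₜ[k] s - s ⊗ₜ[k] (1 : A)) ≤ J ^ 2 :=
    Ideal.span_le.2 (by rintro _ ⟨c, rfl⟩; exact hgen c)
  exact (pow_two J) ▸ this hx

/-- A finite group scheme of invertible order is étale. -/
theorem etale_of_finrank_ne_zero {k : Type u} [Field k] {A : Type v} [CommRing A] [HopfAlgebra k A]
    [Module.Finite k A] (h : (Module.finrank k A : k) ≠ 0) : Algebra.Etale k A := by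
  haveI := formallyUnramified_of_pow_eq_one _ (Ne.isUnit h) (FinGrp.convPow_finrank_eq_one k A)
  haveI : Algebra.EssFiniteType k A := inferInstance
  haveI : Algebra.FormallyEtale k A := by
    exact Algebra.FormallyEtale.iff_formallyUnramified_of_field.2 inferInstance
  exact { finitePresentation := Algebra.FinitePresentation.of_finiteType.1 inferInstance }

end Groth.Agent.HopfEtale
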